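import Cfsg.Agent.OctadInvol.CertificateCommA
import Cfsg.Agent.OctadInvol.CertificateCommB

/-! Part of the certificate of the octad involution centraliser. -/

set_option autoImplicit false

namespace CfsgLib.OctadInvol

open Cfsg CfsgLib.Mathieu CfsgLib.GolayConfig
open scoped Pointwise

theorem commutator_check : LQ.all (fun x => LQ.all fun y =>
    compTab x y == compTab y x || compTab x y == compTab tz (compTab y x)) = true := by
  have h := List.all_append (xs := LQ.take 64) (ys := LQ.drop 64) (f := fun x => LQ.all fun y =>
    compTab x y == compTab y x || compTab x y == compTab tz (compTab y x))
  rw [List.take_append_drop] at h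
  rw [h, commutator_checkA, commutator_checkB, Bool.and_self]

end CfsgLib.OctadInvol
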