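import Cfsg.Agent.OctadInvol.CertificateDefs

/-! Part of the certificate of the octad involution centraliser. -/

set_option autoImplicit false

namespace CfsgLib.OctadInvol

open Cfsg CfsgLib.Mathieu CfsgLib.GolayConfig
open scoped Pointwise

/-- The matrix of a code. -/
def matOf (c : ℕ) : Matrix (Fin 3) (Fin 3) (ZMod 2) :=
  fun i j => if c.testBit (3 * i.val + j.val) then 1 else 0

/-- The matrix of a member of the complement. -/
def matAt (t : ℕ) : Matrix (Fin 3) (Fin 3) (ZMod 2) := matOf (matsK.getD (LK.idxOf t) 0)

set_option maxRecDepth 100000 in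
theorem mat_check : matsK.length = 168 ∧ matsK.Nodup ∧ (matsK.all fun c => decide (c < 512)) = true ∧
    matsK.head? = some 273 ∧
    (matsK.all fun c => decide ((matOf c).det = 1)) = true ∧
    (gensK.all fun g => LK.all fun x =>
      decide (matAt (compTab g x) = matAt g * matAt x)) = true := by
  decide +kernel

end CfsgLib.OctadInvol
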