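import Cfsg.Agent.OctadInvol.CertificateChecks
import Cfsg.Agent.OctadInvol.CertificateComm
import Cfsg.Agent.OctadInvol.CertificateMat

/-! The certificate of the octad involution centraliser, in parts. -/
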