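import Cfsg.Agent.OctadInvol.CertificateDefs

/-! Part of the certificate of the octad involution centraliser. -/

set_option autoImplicit false

namespace CfsgLib.OctadInvol

open Cfsg CfsgLib.Mathieu CfsgLib.GolayConfig
open scoped Pointwise

theorem closedQ : closedOK gensQ LQ = true := by decide +kernel

theorem closedK : closedOK gensK LK = true := by decide +kernel

theorem length_LQ : LQ.length = 128 := by decide +kernel

theorem length_LK : LK.length = 168 := by decide +kernel

theorem zQ : good tz = true ∧ LQ.contains tz = true ∧ compTab tz tz = idTab ∧ tz ≠ idTab := by
  decide +kernel

theorem bQ : good tb = true ∧ LQ.contains tb = true ∧ compTab tb tb = idTab ∧ tb ≠ idTab ∧ tb ≠ tz := by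
  decide +kernel

theorem central_check :
    (gensQ ++ gensK).all (fun g => compTab g tz == compTab tz g) = true := by decide +kernel

theorem square_check : LQ.all (fun x => compTab x x == idTab || compTab x x == tz) = true := by
  decide +kernel

theorem center_check : LQ.all (fun x => x == idTab || x == tz ||
    gensQ.any fun g => !(compTab x g == compTab g x)) = true := by
  decide +kernel

theorem nonabelian_check : gensQ.any (fun g => gensQ.any fun h => !(compTab g h == compTab h g)) = true := by
  decide +kernel

theorem normal_check : gensK.all (fun k => gensQ.all fun g =>
    LQ.any fun q => compTab k g == compTab q k) = true := by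
  decide +kernel

theorem disjoint_check : LK.all (fun x => x == idTab || !LQ.contains x) = true := by decide +kernel

theorem outer_check : LK.all (fun k => k == idTab ||
    gensQ.any fun g => !(compTab k g == compTab g k) && !(compTab k g == compTab (compTab g tz) k)) = true := by
  decide +kernel

/-- Every involution of the complement has a conjugate with product of order three. -/
theorem threeProduct_check : LK.all (fun x => x == idTab || !(compTab x x == idTab) ||
    LK.any fun k => LK.any fun x' => compTab k x == compTab x' k &&
      (!(compTab x x' == idTab) && compTab (compTab x x') (compTab x x') == compTab x' x)) = true := by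
  decide +kernel

theorem octad_check : isCode octMask = true ∧ wt octMask = 8 ∧
    (∀ x : GolayPt, app tz (idx x) = idx x ↔ x ∈ setOf24 octMask) ∧
    (∀ x ∈ setOf24 octMask, app tb (idx x) = idx x) := by decide +kernel

theorem conj_check : conjPairs.all (fun p => good p.1 && good p.2 && LQ.contains p.2 &&
    compTab p.1 tz == compTab p.2 p.1 &&
    decide (∀ x ∈ setOf24 octMask, pt (app p.1 (idx x)) ∈ setOf24 octMask)) = true ∧
    (conjPairs.map Prod.snd).Nodup ∧ conjPairs.length = 15 ∧ idTab ∉ conjPairs.map Prod.snd := by
  decide +kernel

end CfsgLib.OctadInvol
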