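import Cfsg.Agent.OctadInvol.CertificateDefs

/-! Part of the certificate of the octad involution centraliser. -/

set_option autoImplicit false

namespace CfsgLib.OctadInvol

open Cfsg CfsgLib.Mathieu CfsgLib.GolayConfig
open scoped Pointwise

set_option maxRecDepth 100000 in
theorem commutator_checkA : (LQ.take 64).all (fun x => LQ.all fun y =>
    compTab x y == compTab y x || compTab x y == compTab tz (compTab y x)) = true := by
  decide +kernel

end CfsgLib.OctadInvol
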