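import Cfsg.Agent.GolayConfig.HomCert
import Cfsg.Agent.Mathieu.OctadPointwise
import Cfsg.Agent.OctadInvol.Data

/-!
Members of `Cfsg.M24` named by tables, and the kernel checks for the centraliser of an involution
fixing an octad pointwise.
-/

set_option autoImplicit false

namespace CfsgLib.OctadInvol

open Cfsg CfsgLib.Mathieu CfsgLib.GolayConfig
open scoped Pointwise

/-- A normalised table of a member of the group. -/
def good (t : ℕ) : Bool := tableValid t && preservesCode t && normTab t == t

theorem exists_elem {t : ℕ} (h : good t = true) : ∃ g : ↥M24, Rep enc g.1 t := by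
  simp only [good, Bool.and_eq_true] at h
  obtain ⟨σ, r⟩ := exists_rep_of_valid h.1.1
  exact ⟨⟨σ, mem_M24_of_table r h.1.2⟩, r⟩

/-- The member of a table, conjugated by `a`. -/
noncomputable def el (a : ↥M24) (t : ℕ) : ↥M24 :=
  if h : good t = true then a * (exists_elem h).choose * a⁻¹ else 1

theorem el_spec (a : ↥M24) {t : ℕ} (h : good t = true) :
    ∃ g : ↥M24, Rep enc g.1 t ∧ el a t = a * g * a⁻¹ :=
  ⟨_, (exists_elem h).choose_spec, dif_pos h⟩

theorem el_mul (a : ↥M24) {s t : ℕ} (hs : good s = true) (ht : good t = true)
    (hst : good (compTab s t) = true) : el a (compTab s t) = el a s * el a t := by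
  obtain ⟨g, hg, eg⟩ := el_spec a hs
  obtain ⟨h, hh, eh⟩ := el_spec a ht
  obtain ⟨k, hk, ek⟩ := el_spec a hst
  have : k = g * h := Subtype.ext (rep_unique hk (rep_compTab hg hh))
  rw [eg, eh, ek, this]; group

theorem el_one (a : ↥M24) : el a idTab = 1 := by
  obtain ⟨g, hg, eg⟩ := el_spec a (t := idTab) (by decide +kernel)
  have : g = 1 := Subtype.ext (rep_unique hg rep_idTab)
  rw [eg, this, mul_one, mul_inv_cancel]

theorem el_inj (a : ↥M24) {s t : ℕ} (hs : good s = true) (ht : good t = true)
    (h : el a s = el a t) : s = t := by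
  obtain ⟨g, hg, eg⟩ := el_spec a hs
  obtain ⟨k, hk, ek⟩ := el_spec a ht
  rw [eg, ek] at h
  have e : g = k := mul_left_cancel (mul_right_cancel h)
  subst e
  simp only [good, Bool.and_eq_true, beq_iff_eq] at hs ht
  rw [← hs.2, ← ht.2, normTab, normTab]
  have e1 : ∀ f : ℕ → ℕ, (List.range 24).foldr (fun i acc => acc * 256 + f i) 0 =
      ((List.range 24).map f).foldr (fun x acc => acc * 256 + x) 0 :=
    fun f => by rw [List.foldr_map]
  rw [e1, e1 (fun i => app t i),
    List.map_congr_left fun i hi => rep_apply_eq hg hk rfl i (List.mem_range.1 hi)]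

/-- The list grown from the identity by left multiplication. -/
def grow (gens : List ℕ) : List (ℕ × ℕ) → List ℕ → List ℕ
  | [], L => L
  | (i, k) :: rest, L =>
    match L[i]?, gens[k]? with
    | some x, some g => grow gens rest (L ++ [compTab g x])
    | _, _ => L

/-- Members of the extraspecial group. -/
def LQ : List ℕ := grow gensQ stepsQ [idTab]

/-- Members of the complement. -/
def LK : List ℕ := grow gensK stepsK [idTab]

/-- The list is closed under the generators and lists members of the group without repeats. -/
def closedOK (gens L : List ℕ) : Bool :=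
  L.all good && gens.all good && decide L.Nodup && L.head? == some idTab &&
    gens.all fun g => L.all fun x => L.contains (compTab g x)

/-- The subgroup of a list of generators. -/
noncomputable def span (a : ↥M24) (gens : List ℕ) : Subgroup ↥M24 :=
  Subgroup.closure {x | ∃ g ∈ gens, el a g = x}

theorem mem_grow (a : ↥M24) {gens : List ℕ} (hg : ∀ g ∈ gens, good g = true) :
    ∀ (st : List (ℕ × ℕ)) (L : List ℕ), (∀ t ∈ grow gens st L, good t = true) →
      (∀ t ∈ L, el a t ∈ span a gens) → ∀ t ∈ grow gens st L, el a t ∈ span a gens := by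
  intro st
  induction st with
  | nil => intro L _ h; exact h
  | cons s rest ih =>
    intro L hgood h
    obtain ⟨i, k⟩ := s
    revert hgood
    simp only [grow]
    split
    · rename_i x g hx hk
      intro hgood
      have hsub : ∀ (st : List (ℕ × ℕ)) (L : List ℕ) (t : ℕ), t ∈ L → t ∈ grow gens st L := by
        intro st
        induction st with
        | nil => intro L t ht; exact ht
        | cons s rest ih =>
          intro L t ht
          obtain ⟨i, k⟩ := s
          simp only [grow]
          split
          · exact ih _ t (List.mem_append_left _ ht)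
          · exact ht
      refine ih _ hgood fun t ht => ?_
      rcases List.mem_append.1 ht with ht | ht
      · exact h t ht
      · have hgk := List.mem_of_getElem? hk
        have hxm := List.mem_of_getElem? hx
        rw [List.mem_singleton.1 ht, el_mul a (hg g hgk)
          (hgood x (hsub rest _ x (List.mem_append_left _ hxm)))
          (hgood _ (hsub rest _ _ (List.mem_append_right _ (List.mem_singleton.2 rfl))))]
        exact mul_mem (Subgroup.subset_closure ⟨g, hgk, rfl⟩) (h x hxm)
    · exact fun _ => h

/-- The span of the generators is the listed set. -/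
theorem mem_span_iff (a : ↥M24) {gens : List ℕ} {st : List (ℕ × ℕ)}
    (h : closedOK gens (grow gens st [idTab]) = true) {x : ↥M24} :
    x ∈ span a gens ↔ ∃ t ∈ grow gens st [idTab], el a t = x := by
  simp only [closedOK, Bool.and_eq_true, List.all_eq_true, beq_iff_eq, List.contains_iff_mem] at h
  obtain ⟨⟨⟨⟨hL, hg⟩, -⟩, hhead⟩, hcl⟩ := h
  constructor
  · intro hx
    rw [span, ← Subgroup.mem_toSubmonoid, Subgroup.closure_toSubmonoid_of_finite] at hx
    induction hx using Submonoid.closure_induction_left with
    | one => exact ⟨idTab, List.mem_of_head? hhead, el_one a⟩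
    | mul_left y hy z _ ih =>
      obtain ⟨g, hgm, rfl⟩ := hy
      obtain ⟨t, ht, rfl⟩ := ih
      exact ⟨compTab g t, hcl g hgm t ht, el_mul a (hg g hgm) (hL t ht) (hL _ (hcl g hgm t ht))⟩
  · rintro ⟨t, ht, rfl⟩
    refine mem_grow a hg st _ hL (fun t ht => ?_) t ht
    rw [List.mem_singleton.1 ht, el_one]
    exact one_mem _

theorem card_span (a : ↥M24) {gens : List ℕ} {st : List (ℕ × ℕ)}
    (h : closedOK gens (grow gens st [idTab]) = true) :
    Nat.card (span a gens) = (grow gens st [idTab]).length := by
  have hmem := @mem_span_iff a gens st h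
  simp only [closedOK, Bool.and_eq_true, List.all_eq_true, decide_eq_true_eq] at h
  obtain ⟨⟨⟨⟨hL, -⟩, hnd⟩, -⟩, -⟩ := h
  set L := grow gens st [idTab]
  let F : Fin L.length → span a gens := fun i => ⟨el a L[i.val], hmem.2 ⟨_, L.getElem_mem i.2, rfl⟩⟩
  have hF : Function.Bijective F := by
    refine ⟨fun i j hij => Fin.ext ?_, fun x => ?_⟩
    · exact (hnd.getElem_inj_iff).1
        (el_inj a (hL _ (L.getElem_mem i.2)) (hL _ (L.getElem_mem j.2)) (congrArg Subtype.val hij))
    · obtain ⟨t, ht, he⟩ := hmem.1 x.2
      obtain ⟨i, hi, rfl⟩ := List.getElem_of_mem ht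
      exact ⟨⟨i, hi⟩, Subtype.ext he⟩
  rw [← Nat.card_eq_of_bijective F hF, Nat.card_fin]

end CfsgLib.OctadInvol
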