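import Cfsg.Agent.OctadInvol.Certificate
import Cfsg.Agent.GolayOrbits.Octad
import Cfsg.Agent.LargeExtraspecial.Quotient
import Cfsg.Agent.SL3Pres.Concrete

/-!
The centraliser in `Cfsg.M24` of an involution fixing an octad pointwise.
-/

set_option autoImplicit false

namespace CfsgLib.OctadInvol

open Cfsg CfsgLib.Mathieu CfsgLib.GolayConfig CfsgLib.GolayOrbits
open scoped Pointwise

variable (a : ↥M24)

theorem goodQ {t : ℕ} (h : t ∈ LQ) : good t = true := by
  have := closedQ
  simp only [closedOK, Bool.and_eq_true, List.all_eq_true] at this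
  exact this.1.1.1.1 t h

theorem goodK {t : ℕ} (h : t ∈ LK) : good t = true := by
  have := closedK
  simp only [closedOK, Bool.and_eq_true, List.all_eq_true] at this
  exact this.1.1.1.1 t h

theorem goodGQ {t : ℕ} (h : t ∈ gensQ) : good t = true := by
  have := closedQ
  simp only [closedOK, Bool.and_eq_true, List.all_eq_true] at this
  exact this.1.1.1.2 t h

theorem goodGK {t : ℕ} (h : t ∈ gensK) : good t = true := by
  have := closedK
  simp only [closedOK, Bool.and_eq_true, List.all_eq_true] at this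
  exact this.1.1.1.2 t h

theorem good_id : good idTab = true := by decide +kernel

/-- The extraspecial group. -/
noncomputable def QQ : Subgroup ↥M24 := span a gensQ

/-- The complement. -/
noncomputable def KK : Subgroup ↥M24 := span a gensK

/-- The involution. -/
noncomputable def zz : ↥M24 := el a tz

theorem mem_QQ {x : ↥M24} : x ∈ QQ a ↔ ∃ t ∈ LQ, el a t = x := mem_span_iff a closedQ

theorem mem_KK {x : ↥M24} : x ∈ KK a ↔ ∃ t ∈ LK, el a t = x := mem_span_iff a closedK

theorem el_mul_el {s t u v : ℕ} (hs : good s = true) (ht : good t = true) (hu : good u = true)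
    (hv : good v = true) (h : compTab s t = compTab u v) (hgood : good (compTab s t) = true) :
    el a s * el a t = el a u * el a v := by
  rw [← el_mul a hs ht hgood, h, el_mul a hu hv (h ▸ hgood)]

theorem good_comp {s t : ℕ} (hs : good s = true) (ht : good t = true) : good (compTab s t) = true := by
  obtain ⟨g, hg⟩ := exists_elem hs
  obtain ⟨k, hk⟩ := exists_elem ht
  have hr := rep_compTab hg hk
  simp only [good, Bool.and_eq_true, beq_iff_eq, tableValid, allBelow_iff, Nat.blt_eq]
  have hlt : ∀ i < 24, app (compTab s t) i < 24 := fun i hi => by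
    have := hr (enc.symm ⟨i, hi⟩)
    rw [Equiv.apply_symm_apply] at this
    rw [show app (compTab s t) i = _ from this]
    exact Fin.isLt _
  have hpush : ∀ M, push (compTab s t) 24 M < 2 ^ 24 := fun M =>
    Nat.lt_pow_two_of_testBit _ fun j hj => by
      rw [Bool.eq_false_iff]
      intro h
      obtain ⟨i, hi, -, he⟩ := (testBit_push _ _ _ _).1 h
      have := hlt i hi
      omega
  refine ⟨⟨⟨hlt, ?_⟩, ?_⟩, ?_⟩
  · have h1 : setOf24 (push (compTab s t) 24 16777215) =
        (setOf24 16777215).image (g.1 * k.1 : Equiv.Perm GolayPt) := (image_setOf24 hr _).symm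
    rw [setOf24_full, Finset.image_univ_of_surjective (Equiv.surjective _), ← setOf24_full] at h1
    exact setOf24_inj (hpush _) (by norm_num) h1
  · refine List.all_eq_true.2 fun r hr' => ?_
    have hmem : setOf24 r ∈ supports (golayCode : Set (GolayPt → ZMod 2)) :=
      setOf24_mem_supports ((by decide +kernel : ∀ r ∈ codeRows, isCode r = true) r hr')
    have := setSystemAut_image_mem (g * k : ↥M24).2 hmem
    rw [show ((g * k : ↥M24) : Equiv.Perm GolayPt) = g.1 * k.1 from rfl, image_setOf24 hr] at this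
    have h2 := (mem_supports_iff _).1 this
    rwa [setOf24_inj (maskOf_lt _) (hpush r) (setOf24_maskOf _)] at h2
  · have e1 : ∀ f : ℕ → ℕ, (List.range 24).foldr (fun i acc => acc * 256 + f i) 0 =
        ((List.range 24).map f).foldr (fun x acc => acc * 256 + x) 0 :=
      fun f => by rw [List.foldr_map]
    conv_rhs => rw [compTab]
    rw [normTab, e1, e1 (fun i => app s (app t i)), List.map_congr_left (f := app (compTab s t))
      (g := fun i => app s (app t i)) fun i hi =>
      foldr_app_lt _ 24 (fun j _ => Nat.mod_lt _ (by norm_num)) 0 i (List.mem_range.1 hi)]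

theorem commute_iff {s t : ℕ} (hs : good s = true) (ht : good t = true) :
    el a s * el a t = el a t * el a s ↔ compTab s t = compTab t s := by
  refine ⟨fun h => el_inj a (good_comp hs ht) (good_comp ht hs) ?_,
    fun h => el_mul_el a hs ht ht hs h (good_comp hs ht)⟩
  rw [el_mul a hs ht (good_comp hs ht), el_mul a ht hs (good_comp ht hs), h]

theorem zz_mem : zz a ∈ QQ a :=
  (mem_QQ a).2 ⟨tz, List.contains_iff_mem.1 zQ.2.1, rfl⟩

theorem zz_sq : zz a * zz a = 1 := by
  rw [zz, ← el_mul a zQ.1 zQ.1 (zQ.2.2.1 ▸ good_id), zQ.2.2.1, el_one]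

theorem zz_ne : zz a ≠ 1 := fun h =>
  zQ.2.2.2 (el_inj a zQ.1 good_id (h.trans (el_one a).symm))

theorem orderOf_zz : orderOf (zz a) = 2 := orderOf_eq_prime (by rw [sq, zz_sq]) (zz_ne a)

theorem gens_comm {g : ℕ} (hg : g ∈ gensQ ++ gensK) : el a g * zz a = zz a * el a g := by
  have hgood : good g = true := by
    rcases List.mem_append.1 hg with h | h
    exacts [goodGQ h, goodGK h]
  exact (commute_iff a hgood zQ.1).2 (beq_iff_eq.1 (List.all_eq_true.1 central_check g hg))

theorem sup_le_centralizer : QQ a ⊔ KK a ≤ Subgroup.centralizer ({zz a} : Set ↥M24) := by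
  refine sup_le ((Subgroup.closure_le _).2 ?_) ((Subgroup.closure_le _).2 ?_) <;>
    rintro x ⟨g, hg, rfl⟩ <;> rw [SetLike.mem_coe, Subgroup.mem_centralizer_singleton_iff]
  · exact gens_comm a (List.mem_append_left _ hg)
  · exact gens_comm a (List.mem_append_right _ hg)

theorem card_QQ : Nat.card (QQ a) = 128 := (card_span a closedQ).trans length_LQ

theorem card_KK : Nat.card (KK a) = 168 := (card_span a closedK).trans length_LK

theorem inf_eq_bot : QQ a ⊓ KK a = ⊥ := by
  rw [eq_bot_iff]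
  rintro x ⟨hq, hk⟩
  obtain ⟨s, hs, rfl⟩ := (mem_QQ a).1 hq
  obtain ⟨t, ht, hts⟩ := (mem_KK a).1 hk
  have h := el_inj a (goodK ht) (goodQ hs) hts
  subst h
  have := List.all_eq_true.1 disjoint_check t ht
  simp only [Bool.or_eq_true, beq_iff_eq, Bool.not_eq_true'] at this
  rcases this with rfl | h
  · rw [el_one]; exact one_mem _
  · rw [← Bool.not_eq_true, List.contains_iff_mem] at h
    exact absurd hs h

theorem conjK {k : ↥M24} (hk : k ∈ KK a) : ∀ q ∈ QQ a, k * q * k⁻¹ ∈ QQ a := by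
  induction hk using Subgroup.closure_induction'' with
  | mem x hx =>
    obtain ⟨g, hg, rfl⟩ := hx
    intro q hq
    induction hq using Subgroup.closure_induction with
    | mem y hy =>
      obtain ⟨h, hh, rfl⟩ := hy
      obtain ⟨t, ht, he⟩ := List.any_eq_true.1
        (List.all_eq_true.1 (List.all_eq_true.1 normal_check g hg) h hh)
      rw [el_mul_el a (goodGK hg) (goodGQ hh) (goodQ ht) (goodGK hg) (beq_iff_eq.1 he)
        (good_comp (goodGK hg) (goodGQ hh)), mul_inv_cancel_right]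
      exact (mem_QQ a).2 ⟨t, ht, rfl⟩
    | one => simp [one_mem]
    | mul y z _ _ h1 h2 => simpa [mul_assoc] using mul_mem h1 h2
    | inv y _ h1 => simpa [mul_assoc] using inv_mem h1
  | inv_mem x hx =>
    intro q hq
    obtain ⟨g, hg, rfl⟩ := hx
    have hmaps : Set.MapsTo (fun q => el a g * q * (el a g)⁻¹) (QQ a : Set ↥M24) (QQ a : Set ↥M24) := by
      intro q hq
      change el a g * q * (el a g)⁻¹ ∈ QQ a
      induction hq using Subgroup.closure_induction with
      | mem y hy =>
        obtain ⟨h, hh, rfl⟩ := hy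
        obtain ⟨t, ht, he⟩ := List.any_eq_true.1
          (List.all_eq_true.1 (List.all_eq_true.1 normal_check g hg) h hh)
        rw [el_mul_el a (goodGK hg) (goodGQ hh) (goodQ ht) (goodGK hg) (beq_iff_eq.1 he)
          (good_comp (goodGK hg) (goodGQ hh)), mul_inv_cancel_right]
        exact (mem_QQ a).2 ⟨t, ht, rfl⟩
      | one => simp [one_mem]
      | mul y z _ _ h1 h2 => simpa [mul_assoc] using mul_mem h1 h2
      | inv y _ h1 => simpa [mul_assoc] using inv_mem h1
    obtain ⟨p, hp, hpq⟩ := (((Set.toFinite _).injOn_iff_bijOn_of_mapsTo hmaps).1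
      (fun u _ v _ e => mul_left_cancel (mul_right_cancel e))).surjOn hq
    simp only at hpq
    rw [← hpq]
    simpa [mul_assoc] using hp
  | one => simp
  | mul x y _ _ h1 h2 =>
    intro q hq
    simpa [mul_assoc] using h1 _ (h2 q hq)

/-- The octad. -/
noncomputable def oo : Finset GolayPt := (a : Equiv.Perm GolayPt) • setOf24 octMask

theorem oo_mem : oo a ∈ octads := by
  have h := octad_image a.2 (setOf24_mem_wordsOfWeight (M := octMask) (n := 8) octad_check.1 octad_check.2.1)
  exact h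

theorem mem_oo {p : GolayPt} : p ∈ oo a ↔ (a : Equiv.Perm GolayPt)⁻¹ p ∈ setOf24 octMask := by
  rw [oo, ← Finset.inv_smul_mem_iff]; rfl

theorem el_fix {t : ℕ} (ht : good t = true) {p : GolayPt} :
    (el a t : Equiv.Perm GolayPt) p = p ↔
      app t (idx ((a : Equiv.Perm GolayPt)⁻¹ p)) = idx ((a : Equiv.Perm GolayPt)⁻¹ p) := by
  obtain ⟨g, hg, e⟩ := el_spec a ht
  rw [e, show app t (idx ((a : Equiv.Perm GolayPt)⁻¹ p)) = idx ((g : Equiv.Perm GolayPt) ((a : Equiv.Perm GolayPt)⁻¹ p)) from hg _,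
    idx_injective.eq_iff]
  show (a : Equiv.Perm GolayPt) ((g : Equiv.Perm GolayPt) ((a : Equiv.Perm GolayPt)⁻¹ p)) = p ↔ _
  constructor
  · intro h; conv_rhs => rw [← h]
    simp
  · intro h; rw [h]; simp

theorem fix_zz : (Finset.univ.filter fun p => (zz a : Equiv.Perm GolayPt) p = p) = oo a := by
  ext p
  rw [Finset.mem_filter, zz, el_fix a zQ.1, mem_oo, octad_check.2.2.1]
  simp

theorem smul_oo_of_comm {g x : ↥M24}
    (hx : (Finset.univ.filter fun p => (x : Equiv.Perm GolayPt) p = p) = oo a)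
    (h : g * x = x * g) : (g : Equiv.Perm GolayPt) • oo a = oo a := by
  refine Finset.eq_of_subset_of_card_le (fun p hp => ?_) (by rw [Finset.card_smul_finset])
  obtain ⟨q, hq, rfl⟩ := Finset.mem_smul_finset.1 hp
  have hq' := hx.symm ▸ hq
  rw [Finset.mem_filter] at hq'
  rw [← hx, Finset.mem_filter]
  refine ⟨Finset.mem_univ _, ?_⟩
  show ((x * g : ↥M24) : Equiv.Perm GolayPt) q = (g : Equiv.Perm GolayPt) q
  rw [← h]
  show (g : Equiv.Perm GolayPt) ((x : Equiv.Perm GolayPt) q) = _
  rw [hq'.2]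

/-- The pointwise stabiliser of the octad. -/
noncomputable def AA : Subgroup ↥M24 :=
  (M24 ⊓ fixingSubgroup (Equiv.Perm GolayPt) (oo a : Set GolayPt)).subgroupOf M24

theorem mem_AA {x : ↥M24} : x ∈ AA a ↔ ∀ p ∈ oo a, (x : Equiv.Perm GolayPt) p = p := by
  rw [AA, Subgroup.mem_subgroupOf, Subgroup.mem_inf, mem_fixingSubgroup_iff]
  exact ⟨fun h => h.2, fun h => ⟨x.2, h⟩⟩

theorem card_AA : Nat.card (AA a) = 16 := by
  rw [← (octad_pointwise_spec (oo_mem a)).1]
  exact Nat.card_congr (Subgroup.subgroupOfEquivOfLe inf_le_left).toEquiv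

theorem AA_sq {x : ↥M24} (hx : x ∈ AA a) : x * x = 1 :=
  Subtype.ext ((octad_pointwise_spec (oo_mem a)).2 _ (Subgroup.mem_subgroupOf.1 hx))

theorem zz_mem_AA : zz a ∈ AA a :=
  (mem_AA a).2 fun p hp => by rw [← fix_zz a, Finset.mem_filter] at hp; exact hp.2

theorem conj_AA {g x : ↥M24} (hg : (g : Equiv.Perm GolayPt) • oo a = oo a) (hx : x ∈ AA a) :
    g * x * g⁻¹ ∈ AA a := by
  rw [mem_AA] at hx ⊢
  intro p hp
  rw [← hg] at hp
  obtain ⟨q, hq, rfl⟩ := Finset.mem_smul_finset.1 hp
  show (g : Equiv.Perm GolayPt) ((x : Equiv.Perm GolayPt) ((g : Equiv.Perm GolayPt)⁻¹ ((g : Equiv.Perm GolayPt) q))) = _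
  rw [perm_inv_apply, hx q hq]
  rfl

theorem pair_spec {p : ℕ × ℕ} (hp : p ∈ conjPairs) :
    good p.1 = true ∧ good p.2 = true ∧ p.2 ∈ LQ ∧
      el a p.1 * zz a * (el a p.1)⁻¹ = el a p.2 ∧
      (el a p.1 : Equiv.Perm GolayPt) • oo a = oo a := by
  have h := List.all_eq_true.1 conj_check.1 p hp
  simp only [Bool.and_eq_true, beq_iff_eq, decide_eq_true_eq, List.contains_iff_mem] at h
  obtain ⟨⟨⟨⟨h1, h2⟩, h3⟩, h4⟩, h5⟩ := h
  refine ⟨h1, h2, h3, ?_, ?_⟩
  · rw [zz, el_mul_el a h1 zQ.1 h2 h1 h4 (good_comp h1 zQ.1), mul_inv_cancel_right]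
  · refine Finset.eq_of_subset_of_card_le (fun x hx => ?_) (by rw [Finset.card_smul_finset])
    obtain ⟨y, hy, rfl⟩ := Finset.mem_smul_finset.1 hx
    rw [mem_oo] at hy ⊢
    obtain ⟨g, hg, e⟩ := el_spec a h1
    rw [e]
    show (a : Equiv.Perm GolayPt)⁻¹ ((a : Equiv.Perm GolayPt) ((g : Equiv.Perm GolayPt) ((a : Equiv.Perm GolayPt)⁻¹ y))) ∈ _
    rw [perm_inv_apply]
    have := h5 _ hy
    rw [show app p.1 (idx ((a : Equiv.Perm GolayPt)⁻¹ y)) = idx ((g : Equiv.Perm GolayPt) ((a : Equiv.Perm GolayPt)⁻¹ y)) from hg _,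
      pt_idx] at this
    exact this

theorem mem_AA_of_pair {p : ℕ × ℕ} (hp : p ∈ conjPairs) : el a p.2 ∈ AA a := by
  obtain ⟨-, -, -, h, hs⟩ := pair_spec a hp
  exact h ▸ conj_AA a hs (zz_mem_AA a)

/-- Every member of the pointwise stabiliser other than the identity is one of the listed conjugates. -/
theorem exists_pair {x : ↥M24} (hx : x ∈ AA a) (h1 : x ≠ 1) : ∃ p ∈ conjPairs, el a p.2 = x := by
  classical
  obtain ⟨-, hnd, hlen, hid⟩ := conj_check
  set L := conjPairs.map Prod.snd with hLdef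
  have hgood : ∀ t ∈ idTab :: L, good t = true := by
    intro t ht
    rcases List.mem_cons.1 ht with rfl | ht
    · exact good_id
    · obtain ⟨p, hp, rfl⟩ := List.mem_map.1 ht
      exact (pair_spec a hp).2.1
  let s : Finset ↥M24 := (idTab :: L).toFinset.image (el a)
  have hs : ∀ y ∈ s, y ∈ AA a := by
    intro y hy
    obtain ⟨t, ht, rfl⟩ := Finset.mem_image.1 hy
    rcases List.mem_cons.1 (List.mem_toFinset.1 ht) with rfl | ht
    · rw [el_one]; exact one_mem _
    · obtain ⟨p, hp, rfl⟩ := List.mem_map.1 ht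
      exact mem_AA_of_pair a hp
  have hcard : s.card = 16 := by
    rw [Finset.card_image_of_injOn, List.toFinset_card_of_nodup (List.nodup_cons.2 ⟨hid, hnd⟩)]
    · simp [L, hlen]
    · intro u hu v hv e
      exact el_inj a (hgood u (List.mem_toFinset.1 hu)) (hgood v (List.mem_toFinset.1 hv)) e
  have heq : (s : Set ↥M24) = (AA a : Set ↥M24) :=
    Set.eq_of_subset_of_ncard_le hs (by
      rw [Set.ncard_coe_finset, hcard, ← Nat.card_coe_set_eq]; exact (card_AA a).le) (Set.toFinite _)
  have hxs : x ∈ s := by rw [← Finset.mem_coe, heq]; exact hx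
  obtain ⟨t, ht, rfl⟩ := Finset.mem_image.1 hxs
  rcases List.mem_cons.1 (List.mem_toFinset.1 ht) with rfl | ht
  · exact absurd (el_one a) h1
  · obtain ⟨p, hp, rfl⟩ := List.mem_map.1 ht
    exact ⟨p, hp, rfl⟩

theorem AA_le_QQ : AA a ≤ QQ a := by
  intro x hx
  rcases eq_or_ne x 1 with rfl | h1
  · exact one_mem _
  · obtain ⟨p, hp, rfl⟩ := exists_pair a hx h1
    exact (mem_QQ a).2 ⟨p.2, (pair_spec a hp).2.2.1, rfl⟩

theorem centralizer_eq : Subgroup.centralizer ({zz a} : Set ↥M24) = QQ a ⊔ KK a := by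
  classical
  set C := Subgroup.centralizer ({zz a} : Set ↥M24)
  set S : Subgroup ↥M24 := MulAction.stabilizer ↥M24 (oo a)
  have hS : Nat.card S = 322560 := by
    rw [← card_stab_octad (oo_mem a)]
    exact Nat.card_congr (stabilizerInfEquiv M24 (oo a)).toEquiv
  have hCS : C ≤ S := fun g hg =>
    smul_oo_of_comm a (fix_zz a) (Subgroup.mem_centralizer_singleton_iff.1 hg)
  -- the conjugacy orbit under the stabiliser
  let _ : MulAction S ↥M24 := MulAction.compHom _ (ConjAct.toConjAct.toMonoidHom.comp S.subtype)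
  have hsmul : ∀ (g : S) (x : ↥M24), g • x = (g : ↥M24) * x * (g : ↥M24)⁻¹ := fun g x =>
    ConjAct.smul_def _ _
  have horb : 15 ≤ (MulAction.orbit S (zz a)).ncard := by
    obtain ⟨-, hnd, hlen, -⟩ := conj_check
    have hsub : ((conjPairs.map Prod.snd).toFinset.image (el a) : Set ↥M24) ⊆ MulAction.orbit S (zz a) := by
      intro y hy
      obtain ⟨t, ht, rfl⟩ := Finset.mem_image.1 hy
      obtain ⟨p, hp, rfl⟩ := List.mem_map.1 (List.mem_toFinset.1 ht)
      obtain ⟨-, -, -, h, hs⟩ := pair_spec a hp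
      exact ⟨⟨el a p.1, hs⟩, (hsmul _ _).trans h⟩
    refine le_trans (le_of_eq ?_) (Set.ncard_le_ncard hsub (Set.toFinite _))
    rw [Set.ncard_coe_finset, Finset.card_image_of_injOn, List.toFinset_card_of_nodup hnd, List.length_map, hlen]
    intro u hu v hv e
    obtain ⟨p, hp, rfl⟩ := List.mem_map.1 (List.mem_toFinset.1 hu)
    obtain ⟨p', hp', rfl⟩ := List.mem_map.1 (List.mem_toFinset.1 hv)
    exact el_inj a (pair_spec a hp).2.1 (pair_spec a hp').2.1 e
  have hstab : Nat.card (MulAction.stabilizer S (zz a)) = Nat.card C := by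
    refine Nat.card_congr ⟨fun g => ⟨g.1.1, ?_⟩, fun g => ⟨⟨g.1, hCS g.2⟩, ?_⟩, fun _ => rfl, fun _ => rfl⟩
    · have := g.2
      rw [MulAction.mem_stabilizer_iff, hsmul, mul_inv_eq_iff_eq_mul] at this
      exact Subgroup.mem_centralizer_singleton_iff.2 this
    · rw [MulAction.mem_stabilizer_iff, hsmul, mul_inv_eq_iff_eq_mul]
      exact Subgroup.mem_centralizer_singleton_iff.1 g.2
  have hmul := Subgroup.index_mul_card (MulAction.stabilizer S (zz a))
  rw [MulAction.index_stabilizer, hstab, hS] at hmul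
  have hC : Nat.card C ≤ 21504 := by nlinarith [horb, hmul]
  refine (le_antisymm ?_ (sup_le_centralizer a))
  let F : QQ a × KK a → ↥(QQ a ⊔ KK a) := fun x =>
    ⟨(x.1 : ↥M24) * x.2, mul_mem (Subgroup.mem_sup_left x.1.2) (Subgroup.mem_sup_right x.2.2)⟩
  have hF : Function.Injective F := fun x y h => by
    have := congrArg Subtype.val h
    exact Subgroup.mul_injective_of_disjoint (disjoint_iff.2 (inf_eq_bot a)) this
  have h1 := Nat.card_le_card_of_injective F hF
  rw [Nat.card_prod, card_QQ, card_KK] at h1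
  exact (Subgroup.eq_of_le_of_card_ge (sup_le_centralizer a) (le_trans hC h1)).ge

theorem decomp {g : ↥M24} (hg : g ∈ Subgroup.centralizer ({zz a} : Set ↥M24)) :
    ∃ q ∈ QQ a, ∃ k ∈ KK a, q * k = g := by
  rw [centralizer_eq] at hg
  have h : ∀ x ∈ (QQ a : Set ↥M24) * (KK a : Set ↥M24), x ∈ (QQ a : Set ↥M24) * (KK a : Set ↥M24) := fun x h => h
  have hle : KK a ≤ Subgroup.normalizer (QQ a : Set ↥M24) := fun k hk => by
    rw [Subgroup.mem_normalizer_iff]
    intro x
    refine ⟨conjK a hk x, fun hx => ?_⟩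
    have := conjK a (inv_mem hk) _ hx
    simpa [mul_assoc] using this
  rw [← SetLike.mem_coe, Subgroup.coe_mul_of_right_le_normalizer_left _ _ hle] at hg
  obtain ⟨q, hq, k, hk, rfl⟩ := hg
  exact ⟨q, hq, k, hk, rfl⟩

theorem centralizer_le_normalizer :
    Subgroup.centralizer ({zz a} : Set ↥M24) ≤ Subgroup.normalizer (QQ a : Set ↥M24) := by
  rw [centralizer_eq]
  refine sup_le Subgroup.le_normalizer fun k hk => ?_
  rw [Subgroup.mem_normalizer_iff]
  intro x
  refine ⟨conjK a hk x, fun hx => ?_⟩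
  have := conjK a (inv_mem hk) _ hx
  simpa [mul_assoc] using this

theorem sqQ {x : ↥M24} (hx : x ∈ QQ a) : x * x = 1 ∨ x * x = zz a := by
  obtain ⟨t, ht, rfl⟩ := (mem_QQ a).1 hx
  have hg := goodQ ht
  rw [← el_mul a hg hg (good_comp hg hg)]
  have := List.all_eq_true.1 square_check t ht
  simp only [Bool.or_eq_true, beq_iff_eq] at this
  rcases this with h | h <;> rw [h]
  · exact Or.inl (el_one a)
  · exact Or.inr rfl

theorem isPGroup_QQ : IsPGroup 2 (QQ a) := IsPGroup.of_card (n := 7) (card_QQ a)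

theorem extraspecial :
    IsExtraspecial 2 (QQ a) ∧ (Subgroup.center (QQ a)).map (QQ a).subtype = Subgroup.zpowers (zz a) := by
  refine CfsgLib.LargeExtraspecial.isExtraspecial_of_props (isPGroup_QQ a) (orderOf_zz a) (zz_mem a)
    (fun x hx => Subgroup.mem_centralizer_singleton_iff.1 (sup_le_centralizer a (Subgroup.mem_sup_left hx)))
    (fun x hx => sqQ a hx) ?_ ?_ ?_
  · intro x hx y hy
    obtain ⟨s, hs, rfl⟩ := (mem_QQ a).1 hx
    obtain ⟨t, ht, rfl⟩ := (mem_QQ a).1 hy
    have gs := goodQ hs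
    have gt := goodQ ht
    have := List.all_eq_true.1 (List.all_eq_true.1 commutator_check s hs) t ht
    simp only [Bool.or_eq_true, beq_iff_eq] at this
    rcases this with h | h
    · left
      rw [(commute_iff a gs gt).2 h]; group
    · right
      rw [← el_mul a gs gt (good_comp gs gt), h, el_mul a zQ.1 (good_comp gt gs) (h ▸ good_comp gs gt),
        el_mul a gt gs (good_comp gt gs), zz]
      group
  · intro x hx hc
    obtain ⟨t, ht, rfl⟩ := (mem_QQ a).1 hx
    have := List.all_eq_true.1 center_check t ht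
    simp only [Bool.or_eq_true, beq_iff_eq, List.any_eq_true, Bool.not_eq_true'] at this
    rcases this with (rfl | rfl) | ⟨g, hg, h⟩
    · exact Or.inl (el_one a)
    · exact Or.inr rfl
    · rw [beq_eq_false_iff_ne] at h
      exact absurd ((commute_iff a (goodQ ht) (goodGQ hg)).1
        (hc _ (Subgroup.subset_closure ⟨g, hg, rfl⟩)).symm) h
  · obtain ⟨g, hg, h1⟩ := List.any_eq_true.1 nonabelian_check
    obtain ⟨k, hk, h2⟩ := List.any_eq_true.1 h1
    simp only [Bool.not_eq_true', beq_eq_false_iff_ne] at h2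
    exact ⟨_, Subgroup.subset_closure ⟨g, hg, rfl⟩, _, Subgroup.subset_closure ⟨k, hk, rfl⟩,
      fun e => h2 ((commute_iff a (goodGQ hg) (goodGQ hk)).1 e)⟩

theorem centralizer_QQ :
    Subgroup.centralizer (QQ a : Set ↥M24) = (Subgroup.center (QQ a)).map (QQ a).subtype := by
  refine le_antisymm ?_ ?_
  · intro c hc
    rw [Subgroup.mem_centralizer_iff] at hc
    obtain ⟨q, hq, k, hk, rfl⟩ := decomp a
      (Subgroup.mem_centralizer_singleton_iff.2 (hc _ (zz_mem a)).symm)
    obtain ⟨t, ht, rfl⟩ := (mem_KK a).1 hk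
    have hkid : t = idTab := by
      have := List.all_eq_true.1 outer_check t ht
      simp only [Bool.or_eq_true, beq_iff_eq, List.any_eq_true, Bool.and_eq_true, Bool.not_eq_true',
        beq_eq_false_iff_ne] at this
      rcases this with h | ⟨g, hg, h1, h2⟩
      · exact h
      exfalso
      have gg := goodGQ hg
      have gt := goodK ht
      have hgm : el a g ∈ QQ a := Subgroup.subset_closure ⟨g, hg, rfl⟩
      have e : el a t * el a g * (el a t)⁻¹ = q⁻¹ * el a g * q := by
        rw [mul_inv_eq_iff_eq_mul, mul_assoc, mul_assoc, hc _ hgm, mul_assoc q, inv_mul_cancel_left]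
      obtain ⟨he, hz⟩ := extraspecial a
      have hcm := CfsgLib.LargeExtraspecial.commutator_mem_center he (inv_mem hq) hgm
      rw [hz] at hcm
      rcases CfsgLib.LargeExtraspecial.mem_zpowers_two (orderOf_zz a) hcm with h | h
      · refine h1 ((commute_iff a gt gg).1 ?_)
        rw [inv_inv] at h
        rw [← mul_inv_eq_iff_eq_mul, e, ← mul_inv_eq_one]
        exact h
      · refine h2 (el_inj a (good_comp gt gg) (good_comp (good_comp gg zQ.1) gt) ?_)
        rw [el_mul a gt gg (good_comp gt gg), el_mul a (good_comp gg zQ.1) gt (good_comp (good_comp gg zQ.1) gt),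
          el_mul a gg zQ.1 (good_comp gg zQ.1), ← mul_inv_eq_iff_eq_mul, e]
        rw [inv_inv] at h
        have hzg : zz a * el a g = el a g * zz a :=
          (gens_comm a (List.mem_append_left _ hg)).symm
        rw [← show zz a * el a g = el a g * el a tz from hzg, ← mul_inv_eq_iff_eq_mul]
        exact h
    subst hkid
    rw [el_one, mul_one] at hc ⊢
    exact ⟨⟨q, hq⟩, Subgroup.mem_center_iff.2 fun x => Subtype.ext (hc x x.2), rfl⟩
  · rintro _ ⟨x, hx, rfl⟩
    rw [Subgroup.mem_centralizer_iff]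
    intro y hy
    exact congrArg Subtype.val (Subgroup.mem_center_iff.1 hx ⟨y, hy⟩)

theorem large : IsLargeExtraspecial (QQ a) := by
  obtain ⟨hE, hz⟩ := extraspecial a
  obtain ⟨hb1, hbQ, hb2, hb3, hb4⟩ := bQ
  have hbm : el a tb ∈ QQ a := (mem_QQ a).2 ⟨tb, List.contains_iff_mem.1 hbQ, rfl⟩
  have hbA : el a tb ∈ AA a := (mem_AA a).2 fun p hp => by
    rw [el_fix a hb1]
    exact octad_check.2.2.2 _ ((mem_oo a).1 hp)
  have hbne : el a tb ≠ 1 := fun h => hb3 (el_inj a hb1 good_id (h.trans (el_one a).symm))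
  obtain ⟨p, hp, hpe⟩ := exists_pair a hbA hbne
  obtain ⟨-, -, -, hpz, hps⟩ := pair_spec a hp
  rw [hpe] at hpz
  refine CfsgLib.LargeExtraspecial.isLarge_of_center_le_pCore_centralizer hE (centralizer_QQ a) ?_ hbm ?_
    (orderOf_eq_prime (by rw [sq]; exact AA_sq a hbA) hbne) ?_
  · rw [hz, CfsgLib.LargeExtraspecial.centralizer_zpowers]
    exact centralizer_le_normalizer a
  · rw [hz]
    intro h
    rcases CfsgLib.LargeExtraspecial.mem_zpowers_two (orderOf_zz a) h with h | h
    · exact hbne h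
    · exact hb4 (el_inj a hb1 zQ.1 h)
  · set B := Subgroup.centralizer ({el a tb} : Set ↥M24)
    have hBS : ∀ g ∈ B, (g : Equiv.Perm GolayPt) • oo a = oo a := by
      intro g hg
      have hg' := Subgroup.mem_centralizer_singleton_iff.1 hg
      have hcomm : ((el a p.1)⁻¹ * g * el a p.1) * zz a = zz a * ((el a p.1)⁻¹ * g * el a p.1) := by
        have e : zz a = (el a p.1)⁻¹ * el a tb * el a p.1 := by rw [← hpz]; group
        rw [e]
        calc (el a p.1)⁻¹ * g * el a p.1 * ((el a p.1)⁻¹ * el a tb * el a p.1)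
            = (el a p.1)⁻¹ * (g * el a tb) * el a p.1 := by group
          _ = _ := by rw [hg']; group
      have := smul_oo_of_comm a (fix_zz a) hcomm
      rw [Subgroup.coe_mul, Subgroup.coe_mul, mul_smul, mul_smul, hps, Subgroup.coe_inv,
        inv_smul_eq_iff, hps] at this
      exact this
    rw [hz, Subgroup.zpowers_le]
    have hzB : zz a ∈ B :=
      Subgroup.mem_centralizer_singleton_iff.2 (Subgroup.mem_centralizer_singleton_iff.1
        (sup_le_centralizer a (Subgroup.mem_sup_left hbm))).symm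
    refine ⟨⟨zz a, hzB⟩, ?_, rfl⟩
    have hN : ((AA a).subgroupOf B).Normal :=
      ⟨fun x hx g => conj_AA a (hBS _ g.2) hx⟩
    have hP : IsPGroup 2 ((AA a).subgroupOf B) := fun x => ⟨1, by
      apply Subtype.ext
      apply Subtype.ext
      show ((x : ↥B) : ↥M24) ^ 2 ^ 1 = 1
      rw [pow_one, sq]
      exact AA_sq a x.2⟩
    exact (show (AA a).subgroupOf B ≤ Cfsg.pCore 2 B from le_sSup ⟨hN, hP⟩) (zz_mem_AA a)

theorem pCore_centralizer :
    (Cfsg.pCore 2 ↥(Subgroup.centralizer ({zz a} : Set ↥M24))).map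
      (Subgroup.centralizer ({zz a} : Set ↥M24)).subtype = QQ a := by
  set C := Subgroup.centralizer ({zz a} : Set ↥M24)
  have hQC : QQ a ≤ C := le_sup_left.trans (sup_le_centralizer a)
  have hN : ((QQ a).subgroupOf C).Normal :=
    ⟨fun x hx g => ((Subgroup.mem_normalizer_iff.1 (centralizer_le_normalizer a g.2)) x.1).1 hx⟩
  have hle : (QQ a).subgroupOf C ≤ Cfsg.pCore 2 C :=
    le_sSup ⟨hN, (isPGroup_QQ a).comap_of_injective _ C.subtype_injective⟩
  refine le_antisymm ?_ ?_
  swap
  · intro q hq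
    exact ⟨⟨q, hQC hq⟩, hle hq, rfl⟩
  set O := Cfsg.pCore 2 C
  have hO : IsPGroup 2 O := CfsgLib.LargeExtraspecial.isPGroup_pCore 2 C
  have hOn : O.Normal := CfsgLib.LargeExtraspecial.pCore_normal' 2 C
  rintro _ ⟨x, hx, rfl⟩
  obtain ⟨q, hq, k, hk, hqk⟩ := decomp a x.2
  have hkC : k ∈ C := le_sup_right.trans (sup_le_centralizer a) hk
  have hkO : (⟨k, hkC⟩ : C) ∈ O := by
    have : (⟨k, hkC⟩ : C) = (⟨q, hQC hq⟩ : C)⁻¹ * x :=
      Subtype.ext (by show k = q⁻¹ * (x : ↥M24); rw [← hqk, inv_mul_cancel_left])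
    rw [this]
    exact mul_mem (inv_mem (hle hq)) hx
  suffices k = 1 by
    show (x : ↥M24) ∈ QQ a
    rw [← hqk, this, mul_one]
    exact hq
  by_contra hk1
  -- an involution of the complement inside the core
  obtain ⟨e, he⟩ := hO ⟨⟨k, hkC⟩, hkO⟩
  have hpow : k ^ 2 ^ e = 1 := by
    simpa using congrArg (fun y : O => ((y : C) : ↥M24)) he
  have hex : ∃ i, k ^ 2 ^ i = 1 := ⟨e, hpow⟩
  set i := Nat.find hex
  have hi : k ^ 2 ^ i = 1 := Nat.find_spec hex
  have hipos : i ≠ 0 := fun h => by rw [h, pow_zero, pow_one] at hi; exact hk1 hi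
  set x₂ := k ^ 2 ^ (i - 1)
  have hx2 : x₂ ≠ 1 := Nat.find_min hex (show i - 1 < i by omega)
  have hx22 : x₂ * x₂ = 1 := by
    rw [← pow_add, ← two_mul, ← pow_succ', show i - 1 + 1 = i by omega, hi]
  obtain ⟨t, ht, hte⟩ := (mem_KK a).1 (pow_mem hk (2 ^ (i - 1)))
  have gt := goodK ht
  have := List.all_eq_true.1 threeProduct_check t ht
  simp only [Bool.or_eq_true, beq_iff_eq, List.any_eq_true, Bool.and_eq_true, Bool.not_eq_true',
    beq_eq_false_iff_ne] at this
  rcases this with (h | h) | ⟨u, hu, t', ht', he1, he2, he3⟩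
  · exact hx2 (hte.symm.trans (h ▸ el_one a))
  · refine h (el_inj a (good_comp gt gt) good_id ?_)
    rw [el_mul a gt gt (good_comp gt gt), el_one, hte]
    exact hx22
  have gu := goodK hu
  have gt' := goodK ht'
  set c := el a t * el a t' with hcdef
  have ht'e : el a t' = el a u * el a t * (el a u)⁻¹ := by
    rw [el_mul_el a gu gt gt' gu he1 (good_comp gu gt), mul_inv_cancel_right]
  have hc1 : c ≠ 1 := fun h => he2 (el_inj a (good_comp gt gt') good_id (by
    rw [el_mul a gt gt' (good_comp gt gt'), el_one]; exact h))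
  have hcc : c * c = el a t' * el a t := by
    rw [hcdef, ← el_mul a gt gt' (good_comp gt gt'),
      ← el_mul a (good_comp gt gt') (good_comp gt gt') (good_comp (good_comp gt gt') (good_comp gt gt')),
      he3, el_mul a gt' gt (good_comp gt' gt)]
  have htC : el a t ∈ C := hte ▸ pow_mem hkC _
  have huC : el a u ∈ C := le_sup_right.trans (sup_le_centralizer a) ((mem_KK a).2 ⟨u, hu, rfl⟩)
  have htO : (⟨el a t, htC⟩ : C) ∈ O := by
    rw [show (⟨el a t, htC⟩ : C) = (⟨k, hkC⟩ : C) ^ 2 ^ (i - 1) from Subtype.ext (by simpa using hte)]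
    exact pow_mem hkO _
  have hcO : (⟨el a t, htC⟩ : C) * (⟨el a u, huC⟩ * ⟨el a t, htC⟩ * (⟨el a u, huC⟩ : C)⁻¹) ∈ O :=
    mul_mem htO (hOn.conj_mem _ htO _)
  obtain ⟨f, hf⟩ := hO ⟨_, hcO⟩
  have hf' : c ^ 2 ^ f = 1 := by
    have := congrArg (fun y : O => ((y : C) : ↥M24)) hf
    simpa [hcdef, ht'e] using this
  have hc3 : c ^ 3 = 1 := by
    have htt : el a t * el a t = 1 := by rw [hte]; exact hx22
    have htt' : el a t' * el a t' = 1 := by
      rw [ht'e, show el a u * el a t * (el a u)⁻¹ * (el a u * el a t * (el a u)⁻¹) =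
        el a u * (el a t * el a t) * (el a u)⁻¹ by group, htt]
      group
    rw [pow_succ, sq, hcc, hcdef, show el a t' * el a t * (el a t * el a t') =
      el a t' * (el a t * el a t) * el a t' by group, htt, mul_one, htt']
  have hd : orderOf c ∣ Nat.gcd 3 (2 ^ f) :=
    Nat.dvd_gcd (orderOf_dvd_of_pow_eq_one hc3) (orderOf_dvd_of_pow_eq_one hf')
  rw [show Nat.gcd 3 (2 ^ f) = 1 from Nat.Coprime.pow_right f (by norm_num)] at hd
  exact hc1 (orderOf_eq_one_iff.1 (Nat.dvd_one.1 hd))

theorem complement_iso : Nonempty (↥(KK a) ≃* Matrix.SpecialLinearGroup (Fin 3) (ZMod 2)) := by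
  obtain ⟨hlen, hnd, hlt, hhead, hdet, hmul⟩ := mat_check
  simp only [List.all_eq_true, decide_eq_true_eq] at hlt hdet hmul
  have hidx : ∀ {x : ℕ}, x ∈ LK → LK.idxOf x < matsK.length := fun hx => by
    rw [hlen, ← length_LK]; exact List.idxOf_lt_length_iff.2 hx
  have hdet' : ∀ {x : ℕ}, x ∈ LK → (matAt x).det = 1 := fun hx => by
    unfold matAt
    rw [List.getD_eq_getElem _ _ (hidx hx)]
    exact hdet _ (List.getElem_mem _)
  have hex : ∀ x : KK a, ∃ t ∈ LK, el a t = x := fun x => (mem_KK a).1 x.2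
  choose T hT hTe using hex
  have huniq : ∀ (x : KK a) {t : ℕ}, t ∈ LK → el a t = x → T x = t := fun x t ht he =>
    el_inj a (goodK (hT x)) (goodK ht) ((hTe x).trans he.symm)
  have hclosed : ∀ g ∈ gensK, ∀ x ∈ LK, compTab g x ∈ LK := by
    have := closedK
    simp only [closedOK, Bool.and_eq_true, List.all_eq_true, List.contains_iff_mem] at this
    exact this.2
  have hid : idTab ∈ LK := by
    have := closedK
    simp only [closedOK, Bool.and_eq_true, beq_iff_eq] at this
    exact List.mem_of_head? this.1.2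
  have hmat1 : matAt idTab = 1 := by decide +kernel
  let f : KK a → Matrix.SpecialLinearGroup (Fin 3) (ZMod 2) := fun x => ⟨matAt (T x), hdet' (hT x)⟩
  have key : ∀ (x : ↥M24) (hx : x ∈ KK a) (y : KK a), f (⟨x, hx⟩ * y) = f ⟨x, hx⟩ * f y := by
    intro x hx
    have hsub := hx
    rw [KK, span, ← Subgroup.mem_toSubmonoid, Subgroup.closure_toSubmonoid_of_finite] at hsub
    revert hx
    induction hsub using Submonoid.closure_induction_left with
    | one =>
      intro hx y
      have h1 : T (⟨1, hx⟩ : KK a) = idTab := huniq _ hid (el_one a)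
      have h2 : (⟨1, hx⟩ : KK a) * y = y := one_mul y
      rw [h2]
      refine Subtype.ext ?_
      show matAt (T y) = matAt (T (⟨1, hx⟩ : KK a)) * matAt (T y)
      rw [h1, hmat1, one_mul]
    | mul_left u hu w hw ih =>
      intro hx y
      obtain ⟨g, hg, rfl⟩ := hu
      have hwm : w ∈ KK a := by
        have h : el a g ∈ KK a := Subgroup.subset_closure ⟨g, hg, rfl⟩
        simpa using mul_mem (inv_mem h) hx
      have step : ∀ v : KK a, matAt (T ⟨el a g * v.1, mul_mem (Subgroup.subset_closure ⟨g, hg, rfl⟩) v.2⟩) =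
          matAt g * matAt (T v) := fun v => by
        rw [huniq _ (hclosed g hg _ (hT v))
          (by show el a (compTab g (T v)) = el a g * v.1
              rw [el_mul a (goodGK hg) (goodK (hT v)) (goodK (hclosed g hg _ (hT v))), hTe])]
        exact hmul g hg _ (hT v)
      refine Subtype.ext ?_
      show matAt (T (⟨el a g * w, hx⟩ * y)) = matAt (T (⟨el a g * w, hx⟩ : KK a)) * matAt (T y)
      have e := congrArg Subtype.val (ih hwm y)
      change matAt (T (⟨w, hwm⟩ * y)) = matAt (T (⟨w, hwm⟩ : KK a)) * matAt (T y) at e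
      rw [show (⟨el a g * w, hx⟩ * y : KK a) = ⟨el a g * (⟨w, hwm⟩ * y : KK a).1,
          mul_mem (Subgroup.subset_closure ⟨g, hg, rfl⟩) (⟨w, hwm⟩ * y : KK a).2⟩ from
          Subtype.ext (mul_assoc _ _ _), step, e, ← Matrix.mul_assoc, ← step ⟨w, hwm⟩]
  let φ : KK a →* Matrix.SpecialLinearGroup (Fin 3) (ZMod 2) := MonoidHom.mk' f fun x y => key x.1 x.2 y
  have hinj : Function.Injective φ := by
    intro x y h
    have e : matAt (T x) = matAt (T y) := congrArg Subtype.val h
    have hc : matsK.getD (LK.idxOf (T x)) 0 = matsK.getD (LK.idxOf (T y)) 0 := by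
      have inj : ∀ c < 512, ∀ c' < 512, matOf c = matOf c' → c = c' := by
        intro c hc c' hc' h
        refine Nat.eq_of_testBit_eq fun i => ?_
        by_cases hi : i < 9
        · have := congrFun (congrFun h ⟨i / 3, by omega⟩) ⟨i % 3, by omega⟩
          simp only [matOf] at this
          rw [show 3 * (i / 3) + i % 3 = i by omega] at this
          revert this
          cases c.testBit i <;> cases c'.testBit i <;> simp
        · rw [Nat.testBit_lt_two_pow (lt_of_lt_of_le hc (Nat.pow_le_pow_right (n := 2) (by norm_num) (show 9 ≤ i by omega))),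
            Nat.testBit_lt_two_pow (lt_of_lt_of_le hc' (Nat.pow_le_pow_right (n := 2) (by norm_num) (show 9 ≤ i by omega)))]
      refine inj _ ?_ _ ?_ e
      · rw [List.getD_eq_getElem _ _ (hidx (hT x))]; exact hlt _ (List.getElem_mem _)
      · rw [List.getD_eq_getElem _ _ (hidx (hT y))]; exact hlt _ (List.getElem_mem _)
    rw [List.getD_eq_getElem _ _ (hidx (hT x)), List.getD_eq_getElem _ _ (hidx (hT y)), hnd.getElem_inj_iff,
      List.idxOf_inj (hT x)] at hc
    exact Subtype.ext (by rw [← hTe x, hc, hTe y])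
  refine ⟨MulEquiv.ofBijective φ ((Nat.bijective_iff_injective_and_card _).2 ⟨hinj, ?_⟩)⟩
  rw [card_KK, CfsgLib.SL3Pres.card_SL_three, ZMod.card]
  norm_num

/-- Every involution fixing an octad pointwise is one of these. -/
theorem exists_conjugator (z : ↥M24) (hz : orderOf z = 2)
    (hfix : (Finset.univ.filter fun p : GolayPt => (z : Equiv.Perm GolayPt) p = p) ∈ octads) :
    ∃ a : ↥M24, zz a = z := by
  set o := Finset.univ.filter fun p : GolayPt => (z : Equiv.Perm GolayPt) p = p
  obtain ⟨σ, hσ, hσo⟩ := M24_octad_transitive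
    (setOf24_mem_wordsOfWeight (M := octMask) (n := 8) octad_check.1 octad_check.2.1) hfix
  have hoo : oo ⟨σ, hσ⟩ = o := hσo
  have hzA : z ∈ AA ⟨σ, hσ⟩ := (mem_AA _).2 fun p hp => by
    rw [hoo, Finset.mem_filter] at hp; exact hp.2
  have hz1 : z ≠ 1 := fun h => by rw [h, orderOf_one] at hz; exact absurd hz (by norm_num)
  obtain ⟨p, hp, hpe⟩ := exists_pair _ hzA hz1
  obtain ⟨h1, -, -, hconj, -⟩ := pair_spec ⟨σ, hσ⟩ hp
  obtain ⟨g, hg, eg⟩ := el_spec ⟨σ, hσ⟩ h1
  obtain ⟨w, hw, ew⟩ := el_spec ⟨σ, hσ⟩ zQ.1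
  obtain ⟨w', hw', ew'⟩ := el_spec (⟨σ, hσ⟩ * g) zQ.1
  refine ⟨⟨σ, hσ⟩ * g, ?_⟩
  rw [zz, ew', show w' = w from Subtype.ext (rep_unique hw' hw), ← hpe, ← hconj, zz, eg, ew]
  group

end CfsgLib.OctadInvol
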